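import Groth.Agent.AlgSpCohColimLib.Nerve
import Groth.Agent.AlgSpCohColimLib.Colim
import Groth.Agent.ModEtQcLib.Submod
import Groth.Agent.ModEtQcLib.Exact

/-!
# Invariant sections on an atlas; global generation from vanishing of first cohomology
-/

set_option autoImplicit false
set_option linter.unusedSectionVars false
set_option linter.style.haveILetI false
set_option backward.isDefEq.respectTransparency false
set_option backward.isDefEq.respectTransparency.types false
set_option maxHeartbeats 400000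
set_option synthInstance.maxHeartbeats 100000

universe u

open CategoryTheory CategoryTheory.Limits CategoryTheory.Abelian AlgebraicGeometry Opposite AlgSp
open Groth.Agent
open scoped TensorProduct

noncomputable section

namespace AlgSpAff

open ModEtQc AlgSpCohColim

variable {S : Scheme.{u}} {X : Sp S}

theorem bc_kernel {F G : ModEt X} (φ : F ⟶ G) (hF : BC F) (hG : BC G) : BC (kernel φ) :=
  bc_left (T := ShortComplex.mk (kernel.ι φ) φ (kernel.condition φ))
    (ShortComplex.exact_of_f_is_kernel _ (kernelIsKernel _)) hF hG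

theorem bc_cokernel {F G : ModEt X} (φ : F ⟶ G) (hF : BC F) (hG : BC G) : BC (cokernel φ) := by
  refine bc_colimit (parallelPair φ 0) ?_
  rintro (_ | _)
  · exact hF
  · exact hG

theorem surjective_appS_of_epi {F G : ModEt X} (ψ : F ⟶ G) [Epi ψ] (hF : BC F) (hG : BC G) (E : EtOver X)
    [IsAffine E.obj.left.left] : Function.Surjective (appS ψ E) :=
  surjective_appS (T := ShortComplex.mk (kernel.ι ψ) ψ (kernel.condition ψ))
    { exact := ShortComplex.exact_of_f_is_kernel _ (kernelIsKernel _) } (bc_kernel ψ hF hG) E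

theorem exact_cokernel_appS {F G : ModEt X} (φ : F ⟶ G) (hF : BC F) (hG : BC G) (E : EtOver X)
    [IsAffine E.obj.left.left] : Function.Exact (appS φ E) (appS (cokernel.π φ) E) := by
  have hC := bc_cokernel φ hF hG
  intro x
  refine ⟨fun h => ?_, ?_⟩
  · obtain ⟨y, hy⟩ := (exact_appS (T := ShortComplex.mk (kernel.ι (cokernel.π φ)) (cokernel.π φ) (kernel.condition _))
      (ShortComplex.exact_of_f_is_kernel _ (kernelIsKernel _)) E x).1 h
    haveI : Epi (kernel.lift (cokernel.π φ) φ (cokernel.condition φ)) :=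
      inferInstanceAs (Epi (Abelian.factorThruImage φ))
    obtain ⟨z, rfl⟩ := surjective_appS_of_epi (kernel.lift (cokernel.π φ) φ (cokernel.condition φ)) hF
      (bc_kernel _ hG hC) E y
    refine ⟨z, Eq.trans ?_ hy⟩
    exact congrArg (fun ψ => appS ψ E z) (kernel.lift_ι (cokernel.π φ) φ (cokernel.condition φ)).symm
  · rintro ⟨z, rfl⟩
    exact congrArg (fun ψ => appS ψ E z) (cokernel.condition φ)

/-- Underlying abelian sheaves of a short exact sequence of modules. -/
theorem shortExact_toAbEt {T : ShortComplex (ModEt X)} (hT : T.ShortExact) : (T.map (toAbEt X)).ShortExact := by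
  haveI := hT.mono_f
  haveI := hT.epi_g
  let adj := PresheafOfModules.sheafificationAdjunction.{u + 1} (𝟙 (OEtRing X).obj)
  haveI : PreservesColimitsOfShape WalkingSpan (presheafToSheaf (etTop X) AddCommGrpCat.{u + 1}) :=
    (CategoryTheory.sheafificationAdjunction (etTop X) AddCommGrpCat.{u + 1}).leftAdjoint_preservesColimits.preservesColimitsOfShape
  let F := PresheafOfModules.toPresheaf.{u + 1} (OEtRing X).obj ⋙ presheafToSheaf (etTop X) AddCommGrpCat.{u + 1}
  have hF : ∀ P, IsIso (F.map (adj.unit.app P)) := fun P =>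
    ((etTop X).W_iff _).1 ((etTop X).W_toSheafify (A := AddCommGrpCat.{u + 1}) P.presheaf)
  haveI : IsIso adj.counit := inferInstance
  haveI := ModSiteLib.preservesColimitsOfShape_comp_of_inverts_unit adj F (Jc := WalkingSpan) hF
  haveI : PreservesColimitsOfShape WalkingSpan (toAbEt X) :=
    preservesColimitsOfShape_of_natIso
      (F := (SheafOfModules.forget (OEtRing X) ⋙ PresheafOfModules.restrictScalars (𝟙 (OEtRing X).obj)) ⋙ F)
      (Functor.isoWhiskerRight (asIso adj.counit) (SheafOfModules.toSheaf (OEtRing X)))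
  haveI : (toAbEt X).PreservesEpimorphisms := preservesEpimorphisms_of_preservesColimitsOfShape _
  haveI : Mono (T.map (toAbEt X)).f := inferInstanceAs (Mono ((toAbEt X).map T.f))
  haveI : Epi (T.map (toAbEt X)).g := inferInstanceAs (Epi ((toAbEt X).map T.g))
  exact { exact := hT.exact.map_of_mono_of_preservesKernel (toAbEt X) hT.mono_f inferInstance }

/-- Sections over affine objects determine a module. -/
theorem isZero_of_sec (Q : ModEt X) (h : ∀ (E : EtOver X), IsAffine E.obj.left.left → ∀ s : sec Q E, s = 0) :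
    IsZero Q := by
  rw [IsZero.iff_id_eq_zero]
  refine SheafOfModules.hom_ext (PresheafOfModules.hom_ext fun Z => ModuleCat.hom_ext (LinearMap.ext fun (x : sec Q Z.unop) => ?_))
  obtain ⟨κ, Y, g, hY, hc⟩ := exists_affine_cover Z.unop
  change x = 0
  exact eq_of_cover Q Y g hc _ _ fun i => by rw [map_zero]; exact h _ (hY i) _

variable {U : Over S} (p : (yon S).obj U ⟶ X) (hp : RepWith @Etale p)

/-- The atlas. -/
abbrev E0 : EtOver X := e0 p hp

instance isAffine_E0 [IsAffine U.left] : IsAffine (E0 p hp).obj.left.left := ‹IsAffine U.left›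

/-- The product of the atlas with itself. -/
abbrev E1 : EtOver X := prd p hp (E0 p hp)

/-- The two projections. -/
abbrev q₁ : E1 p hp ⟶ E0 p hp := prdπ p hp (E0 p hp)

/-- The second projection. -/
abbrev q₂ : E1 p hp ⟶ E0 p hp := prdk p hp (E0 p hp)

/-- The invariant functions. -/
def invA : Subring Γ(U.left, ⊤) :=
  RingHom.eqLocus (q₁ p hp).hom.left.left.appTop.hom (q₂ p hp).hom.left.left.appTop.hom

theorem rho_upΓ {E E' : EtOver X} (g : E' ⟶ E) (b : Γ(E.obj.left.left, ⊤)) :
    rho g (upΓ E b) = upΓ E' (g.hom.left.left.appTop.hom b) :=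
  RingHom.congr_fun (rho_eq g) _

theorem rho_inv {a : Γ(U.left, ⊤)} (ha : a ∈ invA p hp) :
    rho (q₁ p hp) (upΓ (E0 p hp) a) = rho (q₂ p hp) (upΓ (E0 p hp) a) := by
  refine (rho_upΓ (q₁ p hp) _).trans (Eq.trans ?_ (rho_upΓ (q₂ p hp) _).symm)
  exact congrArg (upΓ _) ha

/-- The invariant sections of a module. -/
def inv (Q : ModEt X) : AddSubgroup (sec Q (E0 p hp)) where
  carrier := {s | res Q (q₁ p hp) s = res Q (q₂ p hp) s}
  add_mem' {a b} ha hb := by
    change res Q _ (a + b) = res Q _ (a + b)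
    rw [map_add, map_add]; exact congrArg₂ (· + ·) ha hb
  zero_mem' := by change res Q _ 0 = res Q _ 0; rw [map_zero, map_zero]
  neg_mem' {a} ha := by
    change res Q _ (-a) = res Q _ (-a)
    rw [map_neg, map_neg]; exact congrArg Neg.neg ha

theorem mem_inv_iff (Q : ModEt X) (s : sec Q (E0 p hp)) :
    s ∈ inv p hp Q ↔ res Q (q₁ p hp) s = res Q (q₂ p hp) s := Iff.rfl

theorem smul_mem_inv (Q : ModEt X) {a : Γ(U.left, ⊤)} (ha : a ∈ invA p hp) {s : sec Q (E0 p hp)}
    (hs : s ∈ inv p hp Q) : (show Ring (E0 p hp) from upΓ (E0 p hp) a) • s ∈ inv p hp Q := by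
  rw [mem_inv_iff, res_smul, res_smul, hs]
  exact congrArg (· • res Q (q₂ p hp) s) (rho_inv p hp ha)

theorem appS_mem_inv {Q Q' : ModEt X} (φ : Q ⟶ Q') {s : sec Q (E0 p hp)} (hs : s ∈ inv p hp Q) :
    appS φ (E0 p hp) s ∈ inv p hp Q' := by
  rw [mem_inv_iff, ← appS_res, ← appS_res, hs]

variable (hs : RepWith @Surjective p) [QuasiSeparatedSpace ↥S] [IsAffine U.left]

include hs in
theorem mem_inv_of_fam {Q : ModEt X} (x : Fam ((toAbEt X).obj Q)) : (x.1 (E0 p hp) : sec Q (E0 p hp)) ∈ inv p hp Q :=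
  (x.2 (q₁ p hp)).trans (x.2 (q₂ p hp)).symm

include hs in
theorem exists_fam_of_inv {Q : ModEt X} {s : sec Q (E0 p hp)} (h : s ∈ inv p hp Q) :
    ∃ x : Fam ((toAbEt X).obj Q), x.1 (E0 p hp) = s :=
  exists_fam p hp hs (F := (toAbEt X).obj Q) s h

/-- Surjectivity on invariant sections. -/
def Lift : Prop :=
  ∀ (T : ShortComplex (ModEt X)), T.ShortExact → BC T.X₁ → ∀ s ∈ inv p hp T.X₃,
    ∃ t ∈ inv p hp T.X₂, appS T.g (E0 p hp) t = s

/-- Invariant sections detect quasi-coherent modules. -/
def Cons : Prop :=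
  ∀ Q : ModEt X, BC Q → (∀ s ∈ inv p hp Q, s = 0) → ∀ s : sec Q (E0 p hp), s = 0

include hs in
theorem lift_of_h1 (h1 : ∀ M : ModEt X, M.IsQuasicoherent → Subsingleton (HModEt X M 1)) : Lift p hp := by
  intro T hT hT1 s h
  obtain ⟨x, hx⟩ := exists_fam_of_inv p hp hs h
  haveI := h1 T.X₁ (isQuasicoherent_of_bc _ hT1)
  have hA := shortExact_toAbEt hT
  let z : HEt X ((toAbEt X).obj T.X₃) 0 := (famEquiv _).symm x
  obtain ⟨y, hy⟩ := Ext.covariant_sequence_exact₃ _ hA z (n₁ := 1) rfl
    (Subsingleton.elim (α := HModEt X T.X₁ 1) _ _)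
  refine ⟨(famEquiv ((toAbEt X).obj T.X₂) y).1 (E0 p hp), mem_inv_of_fam p hp hs _, ?_⟩
  have h2 : ((famEquiv ((toAbEt X).obj T.X₃)) (Sheaf.H.map ((toAbEt X).map T.g) 0 y)).1 (E0 p hp) = s := by
    rw [show Sheaf.H.map ((toAbEt X).map T.g) 0 y = z from hy, AddEquiv.apply_symm_apply, hx]
  exact (famEquiv_nat _ _ _).symm.trans h2

include hs in
theorem sec_eq_zero_of_atlas {Q : ModEt X} (hQ : BC Q) (h : ∀ s : sec Q (E0 p hp), s = 0) (E : EtOver X)
    (s : sec Q E) : s = 0 := by
  obtain ⟨κ, Y, g, hY, hc⟩ := exists_affine_cover (prd p hp E)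
  refine eq_of_cover Q (fun i => Y i) (fun i => g i ≫ prdπ p hp E) (fun x => ?_) _ _ fun i => ?_
  · obtain ⟨y, rfl⟩ := surjective_prdπ p hp hs E x
    obtain ⟨i, z, rfl⟩ := hc y
    exact ⟨i, z, rfl⟩
  · haveI := hY i
    let Z : Over (E0 p hp) := Over.mk (g i ≫ prdk p hp E)
    obtain ⟨t, ht⟩ := ((isTilde_iff_evS Q (E0 p hp)).1 (hQ _ (isAffine_E0 p hp)) Z (hY i)).2
      (res Q (g i ≫ prdπ p hp E) s)
    rw [map_zero, ← ht]
    clear ht
    induction t using TensorProduct.induction_on with
    | zero => rw [map_zero]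
    | tmul r m => rw [h m, TensorProduct.tmul_zero, map_zero]
    | add a b ha hb => rw [map_add, ha, hb, add_zero]

include hs in
theorem isZero_of_atlas {Q : ModEt X} (hQ : BC Q) (h : ∀ s : sec Q (E0 p hp), s = 0) : IsZero Q :=
  isZero_of_sec Q fun E _ s => sec_eq_zero_of_atlas p hp hs hQ h E s

include hs in
/-- Invariant sections span. -/
theorem span_inv (hL : Lift p hp) (hC : Cons p hp) {Q : ModEt X} (hQ : BC Q) :
    Submodule.span (Ring (E0 p hp)) (inv p hp Q : Set (sec Q (E0 p hp))) = ⊤ := by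
  let G : ∀ E : EtOver X, Set (sec Q E) := fun E => Set.range fun x : Fam ((toAbEt X).obj Q) => (x.1 E : sec Q E)
  let P : ∀ E : EtOver X, IsAffine E.obj.left.left → Submodule (Ring E) (sec Q E) := fun E _ =>
    Submodule.span (Ring E) (G E)
  have hres' : ∀ {E E' : EtOver X} (g : E' ⟶ E) (s : sec Q E), s ∈ Submodule.span (Ring E) (G E) →
      res Q g s ∈ Submodule.span (Ring E') (G E') := by
    intro E E' g s hs'
    induction hs' using Submodule.span_induction with
    | mem s hs' =>
      obtain ⟨x, rfl⟩ := hs'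
      exact Submodule.subset_span ⟨x, (x.2 g).symm⟩
    | zero => rw [map_zero]; exact Submodule.zero_mem _
    | add a b _ _ ha hb => rw [map_add]; exact Submodule.add_mem _ ha hb
    | smul c a _ ha => rw [res_smul]; exact Submodule.smul_mem _ _ ha
  obtain ⟨F', ι, hι, hF', hrange⟩ := exists_submodule Q P
    (fun E hE n Y g hY hcov s hsm => by
      haveI := hE
      haveI := hY
      rw [← Submodule.Quotient.mk_eq_zero (Submodule.span (Ring E) (G E))]
      let Y' : Fin n → Over E := fun i => Over.mk (g i)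
      haveI : ∀ i, IsAffine (Y' i).left.obj.left.left := hY
      have hfam : FaithfulFamily (Ring E) (fun i => Ring (Y' i).left) :=
        faithfulFamily_of_flat _ (fun i => RingHom.flat_algebraMap_iff.1 (flat_rho (Y' i).hom))
          (surjective_comap (fun i => (Y' i).left) (fun i => (Y' i).hom) hcov)
      refine hfam _ _ fun i => ?_
      have e2 := (isTilde_iff_evS Q E).1 (hQ E hE) (Y' i) (hY i)
      obtain ⟨z, hz⟩ : ∃ z, evS Q (Y' i) ((Submodule.span (Ring E) (G E)).subtype.lTensor (Ring (Y' i).left) z) =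
          res Q (g i) s := by
        have hm := hsm i
        change res Q (g i) s ∈ Submodule.span (Ring (Y i)) (G (Y i)) at hm
        generalize res Q (g i) s = w at hm
        induction hm using Submodule.span_induction with
        | mem w hw =>
          obtain ⟨x, rfl⟩ := hw
          refine ⟨(1 : Ring (Y' i).left) ⊗ₜ ⟨x.1 E, Submodule.subset_span ⟨x, rfl⟩⟩, ?_⟩
          rw [LinearMap.lTensor_tmul, evS_tmul, one_smul]
          exact x.2 (g i)
        | zero => exact ⟨0, by rw [map_zero, map_zero]⟩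
        | add a b _ _ ha hb =>
          obtain ⟨za, rfl⟩ := ha
          obtain ⟨zb, rfl⟩ := hb
          exact ⟨za + zb, by rw [map_add, map_add]⟩
        | smul c a _ ha =>
          obtain ⟨za, rfl⟩ := ha
          refine ⟨(show Ring (Y' i).left from c) • za, ?_⟩
          refine (congrArg (evS Q (Y' i)) ((TensorProduct.AlgebraTensorModule.lTensor (Ring (Y' i).left) (Ring (Y' i).left)
            (Submodule.span (Ring E) (G E)).subtype).map_smul _ za)).trans ?_
          exact evS_smul Q (Y' i) _ _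
      have e3 : (1 : Ring (Y' i).left) ⊗ₜ[Ring E] s =
          (Submodule.span (Ring E) (G E)).subtype.lTensor (Ring (Y' i).left) z :=
        e2.1 (by rw [hz, evS_tmul, one_smul]; rfl)
      have e4 := congrArg ((Submodule.span (Ring E) (G E)).mkQ.lTensor (Ring (Y' i).left)) e3
      rw [LinearMap.lTensor_tmul, ← LinearMap.comp_apply, ← LinearMap.lTensor_comp,
        show (Submodule.span (Ring E) (G E)).mkQ ∘ₗ (Submodule.span (Ring E) (G E)).subtype = 0 from
          LinearMap.ext fun y => (Submodule.Quotient.mk_eq_zero _).2 y.2,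
        LinearMap.lTensor_zero, LinearMap.zero_apply] at e4
      exact e4)
    (fun g _ _ s hs' => hres' g s hs') hQ
    (fun {E E'} g _ _ t ht => by
      change t ∈ Submodule.span (Ring E') (G E') at ht
      refine Submodule.span_le.2 ?_ ht
      rintro _ ⟨x, rfl⟩
      exact Submodule.subset_span ⟨x.1 E, Submodule.subset_span ⟨x, rfl⟩, x.2 g⟩)
  haveI := hι
  have hGe : G (E0 p hp) = (inv p hp Q : Set _) := Set.ext fun s => ⟨fun ⟨x, hx⟩ => hx ▸ mem_inv_of_fam p hp hs x,
    fun h => exists_fam_of_inv p hp hs h⟩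
  have hr0 : Set.range (appS ι (E0 p hp)) = SetLike.coe (Submodule.span (Ring (E0 p hp)) (inv p hp Q : Set (sec Q (E0 p hp)))) := by
    rw [hrange _ (isAffine_E0 p hp), ← hGe]
  have hCq : ∀ s : sec (cokernel ι) (E0 p hp), s = 0 := hC _ (bc_cokernel ι hF' hQ) fun c hc => by
    obtain ⟨t, ht, rfl⟩ := hL (ShortComplex.mk ι (cokernel.π ι) (cokernel.condition ι))
      { exact := ShortComplex.exact_of_g_is_cokernel _ (cokernelIsCokernel ι) } hF' c hc
    refine (exact_cokernel_appS ι hF' hQ (E0 p hp) t).2 ?_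
    rw [hr0]
    exact Submodule.subset_span (R := Ring (E0 p hp)) ht
  refine eq_top_iff.2 fun s _ => ?_
  have : s ∈ Set.range (appS ι (E0 p hp)) := (exact_cokernel_appS ι hF' hQ (E0 p hp) s).1 (hCq _)
  rwa [hr0] at this

end AlgSpAff
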