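import Groth.Agent.AlgSpAffLib.Relations
import Groth.Agent.AlgSpLib.QcQs

/-!
# Functions on the base change of the atlas to an affine scheme
-/

set_option autoImplicit false
set_option linter.unusedSectionVars false
set_option linter.style.haveILetI false
set_option backward.isDefEq.respectTransparency false
set_option backward.isDefEq.respectTransparency.types false
set_option maxHeartbeats 400000
set_option synthInstance.maxHeartbeats 100000

universe u

open CategoryTheory CategoryTheory.Limits AlgebraicGeometry Opposite AlgSp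
open Groth.Agent
open scoped TensorProduct

noncomputable section

namespace AlgSpAff

open ModEtQc AlgSpCohColim

variable {S : Scheme.{u}} {X : Sp S}

/-- Base changes along morphisms from affine schemes are quasi-compact and quasi-separated. -/
theorem qcqs_bcObj_affine (hX : IsAlgSpace X) (hqs : IsQuasiSeparatedSp X) [QuasiSeparatedSpace ↥S] {T : Over S}
    [IsAffine T.left] {f : (yon S).obj T ⟶ X} (hf : Representable f) (E : EtOver X) [IsAffine E.obj.left.left] :
    CompactSpace ↥(EtOver.bcObj hf E).obj.left.left ∧ QuasiSeparatedSpace ↥(EtOver.bcObj hf E).obj.left.left := by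
  haveI : QuasiCompact (hf.snd E.obj.hom).left :=
    (((AlgSpLib.repWith_quasiCompact_iff (IsAlgSpace.yon_obj T) hX hf).2
      (AlgSpLib.isQuasiCompactMor_of_qcSp_qsSp (IsAlgSpace.yon_obj T) hX f (AlgSpLib.isQuasiCompactSp_yon T) hqs))).property
        _ _ _ (hf.isPullback E.obj.hom)
  refine ⟨QuasiCompact.compactSpace_of_compactSpace (hf.snd E.obj.hom).left, ?_⟩
  let m : hf.pullback E.obj.hom ⟶ E.obj.left ⨯ T :=
    prod.lift (hf.snd E.obj.hom) ((yon S).preimage (hf.fst E.obj.hom))
  haveI : Mono m := ⟨fun a b hab => by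
    have h1 := congrArg (· ≫ prod.fst) hab
    have h2 := congrArg (· ≫ prod.snd) hab
    simp only [m, Category.assoc, prod.lift_fst, prod.lift_snd] at h1 h2
    refine hf.hom_ext ?_ h1
    have h3 := congrArg (yon S).map h2
    rwa [Functor.map_comp, Functor.map_comp, Functor.map_preimage] at h3⟩
  haveI : Mono m.left := inferInstanceAs (Mono ((Over.forget S).map m))
  haveI : QuasiSeparatedSpace ↥(pullback E.obj.left.hom T.hom) :=
    quasiSeparatedSpace_of_quasiSeparated (pullback.fst E.obj.left.hom T.hom)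
  haveI : QuasiSeparatedSpace ↥(E.obj.left ⨯ T).left :=
    quasiSeparatedSpace_of_quasiSeparated (Over.prodLeftIsoPullback E.obj.left T).hom
  haveI : IsSeparated m.left := inferInstance
  exact quasiSeparatedSpace_of_quasiSeparated m.left

variable {U : Over S} (p : (yon S).obj U ⟶ X) (hp : RepWith @Etale p)

theorem inv_comp {Z : Over S} (a b : Z ⟶ U) (h : (yon S).map a ≫ p = (yon S).map b ≫ p) {v : Γ(U.left, ⊤)}
    (hv : v ∈ invA p hp) : a.left.appTop.hom v = b.left.appTop.hom v := by
  let l : Z ⟶ hp.rep.pullback p := hp.rep.lift ((yon S).map b) a h.symm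
  have h1 : l ≫ (q₁ p hp).hom.left = a := hp.rep.lift_snd _ _ _
  have h2 : l ≫ (q₂ p hp).hom.left = b := (yon S).map_injective (by
    refine ((yon S).map_comp _ _).trans ?_
    refine (congrArg ((yon S).map l ≫ ·) ((yon S).map_preimage _)).trans ?_
    exact hp.rep.lift_fst _ _ _)
  rw [← h1, ← h2, Over.comp_left, Over.comp_left]
  simp only [Scheme.Hom.comp_appTop, CommRingCat.hom_comp, RingHom.comp_apply]
  exact congrArg _ hv

variable (hX : IsAlgSpace X) {T : Over S} (t : T ⟶ U)

/-- The base change of the atlas. -/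
abbrev bcP : Over S := (hX.representable_from_yon ((yon S).map t ≫ p)).pullback p

/-- The projection to the atlas. -/
abbrev r₂ : bcP p hX t ⟶ U := (hX.representable_from_yon ((yon S).map t ≫ p)).snd p

/-- The projection to the affine scheme. -/
def r₁ : bcP p hX t ⟶ T := (yon S).preimage ((hX.representable_from_yon ((yon S).map t ≫ p)).fst p)

theorem map_r₁ : (yon S).map (r₁ p hX t) = (hX.representable_from_yon ((yon S).map t ≫ p)).fst p :=
  (yon S).map_preimage _

theorem sq_r : (yon S).map (r₁ p hX t ≫ t) ≫ p = (yon S).map (r₂ p hX t) ≫ p := by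
  rw [Functor.map_comp, Category.assoc, map_r₁]
  exact (hX.representable_from_yon ((yon S).map t ≫ p)).w p

/-- The algebra structure of the affine scheme over the invariant functions. -/
@[reducible] def algT : Algebra (invA p hp) Γ(T.left, ⊤) :=
  (t.left.appTop.hom.comp (invA p hp).subtype).toAlgebra

/-- The algebra structure of the base change over the invariant functions. -/
@[reducible] def algP : Algebra (invA p hp) Γ((bcP p hX t).left, ⊤) :=
  ((r₂ p hX t).left.appTop.hom.comp (invA p hp).subtype).toAlgebra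

/-- The comparison map. -/
def tens : letI := algT p hp t
    Γ(U.left, ⊤) ⊗[invA p hp] Γ(T.left, ⊤) →+* Γ((bcP p hX t).left, ⊤) :=
  letI := algT p hp t
  letI := algP p hp hX t
  (Algebra.TensorProduct.lift
    ({ (r₂ p hX t).left.appTop.hom with commutes' := fun _ => rfl } :
      Γ(U.left, ⊤) →ₐ[invA p hp] Γ((bcP p hX t).left, ⊤))
    ({ (r₁ p hX t).left.appTop.hom with
      commutes' := fun a => by
        have h := inv_comp p hp (r₁ p hX t ≫ t) (r₂ p hX t) (sq_r p hX t) a.2
        rw [Over.comp_left, Scheme.Hom.comp_appTop] at h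
        exact h } : Γ(T.left, ⊤) →ₐ[invA p hp] Γ((bcP p hX t).left, ⊤))
    fun _ _ => Commute.all _ _).toRingHom

theorem tens_tmul (b : Γ(U.left, ⊤)) (c : Γ(T.left, ⊤)) : letI := algT p hp t
    tens p hp hX t (b ⊗ₜ c) = (r₂ p hX t).left.appTop.hom b * (r₁ p hX t).left.appTop.hom c := rfl

theorem exists_fin_sum {R M N : Type*} [CommRing R] [AddCommGroup M] [AddCommGroup N] [Module R M] [Module R N]
    (z : M ⊗[R] N) : ∃ (n : ℕ) (b : Fin n → M) (c : Fin n → N), z = ∑ i, b i ⊗ₜ[R] c i := by
  induction z using TensorProduct.induction_on with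
  | zero => exact ⟨0, Fin.elim0, Fin.elim0, by simp⟩
  | tmul b c => exact ⟨1, fun _ => b, fun _ => c, by simp⟩
  | add x y hx hy =>
    obtain ⟨n, b, c, rfl⟩ := hx
    obtain ⟨n', b', c', rfl⟩ := hy
    refine ⟨n + n', Fin.append b b', Fin.append c c', ?_⟩
    rw [Fin.sum_univ_add]
    simp

variable (hs : RepWith @Surjective p) [QuasiSeparatedSpace ↥S] [IsAffine U.left] (hqs : IsQuasiSeparatedSp X)
  [IsAffine T.left]

include hp hs hX hqs in
/-- Functions on the base change of the atlas are a tensor product over the invariant functions. -/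
theorem bijective_tens (hL : Lift p hp) (hC : Cons p hp) : Function.Bijective (tens p hp hX t) := by
  letI := algT p hp t
  let f := (yon S).map t ≫ p
  let hf : Representable f := hX.representable_from_yon f
  let topT : EtOver ((yon S).obj T) := EtOver.mk (𝟙 _) (AlgSpLib.repWith_of_isIso _)
  let W : EtOver ((yon S).obj T) := EtOver.bcObj hf (E0 p hp)
  let g : W ⟶ topT := EtOver.homMk (r₁ p hX t) (by
    change (yon S).map _ ≫ 𝟙 _ = _
    rw [Category.comp_id, map_r₁]
    rfl)
  let F : ModEt X := (pushModEt hf).obj (unitModEt ((yon S).obj T))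
  have hF : BC F := bc_push hf _ bc_unit fun E hE => haveI := hE; qcqs_bcObj_affine hX hqs hf E
  let sF : Γ(T.left, ⊤) → sec F (E0 p hp) := fun c => upΓ W ((r₁ p hX t).left.appTop.hom c)
  have hsF : ∀ c, sF c = (show sec F (E0 p hp) from rho g (upΓ topT c)) := fun c => (rho_upΓ g c).symm
  have hinv : ∀ c, sF c ∈ inv p hp F := fun c => by
    rw [mem_inv_iff, hsF]
    change rho (EtOver.bcMap hf (q₁ p hp)) (rho g (upΓ topT c)) = rho (EtOver.bcMap hf (q₂ p hp)) (rho g (upΓ topT c))
    rw [← RingHom.comp_apply, ← RingHom.comp_apply, ← rho_comp, ← rho_comp]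
    refine congrArg (fun m => rho m (upΓ topT c)) (EtOver.hom_ext _ _ ((yon S).map_injective ?_))
    change (yon S).map ((EtOver.bcMap hf (q₁ p hp)).hom.left ≫ r₁ p hX t) =
      (yon S).map ((EtOver.bcMap hf (q₂ p hp)).hom.left ≫ r₁ p hX t)
    rw [Functor.map_comp, Functor.map_comp, map_r₁]
    exact (EtOver.map_bcMap_fst hf (q₁ p hp)).trans (EtOver.map_bcMap_fst hf (q₂ p hp)).symm
  haveI : Surjective (r₁ p hX t).left := by
    have h := hs.property _ _ _ (show IsPullback ((yon S).map (r₂ p hX t)) ((yon S).map (r₁ p hX t)) p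
      ((yon S).map t ≫ p) by rw [map_r₁]; exact (hf.isPullback p).flip)
    exact h
  have hinj : ∀ c, (r₁ p hX t).left.appTop.hom c = 0 → c = 0 := fun c hc => by
    have h : upΓ topT c = (0 : Ring topT) := ModEtQc.eq_of_cover (unitModEt ((yon S).obj T))
      (fun _ : PUnit.{u + 1} => W) (fun _ => g)
      (fun x => ⟨⟨⟩, (r₁ p hX t).left.surjective x⟩) _ _ fun _ => by
        rw [map_zero]
        refine (rho_upΓ g c).trans ?_
        exact (congrArg (upΓ W) hc).trans (map_zero _)
    exact congrArg ULift.down h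
  have hsmul : ∀ (b : Γ(U.left, ⊤)) (c : Γ(T.left, ⊤)),
      (show Ring (E0 p hp) from upΓ (E0 p hp) b) • sF c =
        (show sec F (E0 p hp) from upΓ W (tens p hp hX t (b ⊗ₜ c))) := fun b c => by
    rw [tens_tmul, map_mul]
    change (show Ring W from bcRho hf (E0 p hp) (upΓ (E0 p hp) b)) * (show Ring W from upΓ W _) = _
    rfl
  refine ⟨(injective_iff_map_eq_zero _).2 fun z hz => ?_, fun w => ?_⟩
  · obtain ⟨n, b, c, rfl⟩ := exists_fin_sum z
    obtain ⟨m, β, v, hv, hb⟩ := exists_relations p hp hs hL hC hF (fun i => sF (c i)) (fun i => hinv (c i)) b (by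
      refine Eq.trans ?_ ((congrArg (upΓ W) hz).trans (map_zero _))
      rw [map_sum, map_sum]
      exact Finset.sum_congr rfl fun i _ => hsmul _ _)
    have hv' : ∀ l, ∑ i, (v l i) • c i = 0 := fun l => by
      refine hinj _ ?_
      have h2 : upΓ W (∑ i, tens p hp hX t ((v l i : Γ(U.left, ⊤)) ⊗ₜ c i)) = upΓ W 0 := by
        rw [map_sum, map_zero]
        refine Eq.trans ?_ (hv l)
        exact Finset.sum_congr rfl fun i _ => (hsmul _ _).symm
      refine Eq.trans ?_ (congrArg ULift.down h2)
      rw [map_sum]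
      refine Finset.sum_congr rfl fun i _ => ?_
      rw [tens_tmul, Algebra.smul_def, map_mul]
      congr 1
      have h := inv_comp p hp (r₁ p hX t ≫ t) (r₂ p hX t) (sq_r p hX t) (v l i).2
      rw [Over.comp_left, Scheme.Hom.comp_appTop] at h
      exact h
    have e : ∀ i, b i = ∑ l, (v l i) • β l := fun i => by
      rw [hb i]
      exact Finset.sum_congr rfl fun l _ => (mul_comm _ _).trans (Subring.smul_def (v l i) (β l)).symm
    rw [show (∑ i, b i ⊗ₜ[invA p hp] c i) = ∑ i, ∑ l, β l ⊗ₜ[invA p hp] ((v l i) • c i) from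
      Finset.sum_congr rfl fun i _ => by simp only [e, TensorProduct.sum_tmul, TensorProduct.smul_tmul],
      Finset.sum_comm]
    simp only [← TensorProduct.tmul_sum, hv', TensorProduct.tmul_zero, Finset.sum_const_zero]
  · have hrange : ∀ s ∈ inv p hp F, ∃ c, sF c = s := fun s h => by
      obtain ⟨y, hy⟩ := exists_fam_of_inv p hp hs h
      obtain ⟨x, hx⟩ := (ModEtQc.bijective_famPush hf hX ((toAbEt _).obj (unitModEt ((yon S).obj T)))).2 y
      refine ⟨(show Ring topT from x.1 topT).down, ?_⟩
      rw [hsF]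
      refine Eq.trans ?_ hy
      rw [← hx]
      exact x.2 g
    have hsp : (show sec F (E0 p hp) from upΓ W w) ∈
        Submodule.span (Ring (E0 p hp)) (inv p hp F : Set (sec F (E0 p hp))) := by
      rw [span_inv p hp hs hL hC hF]; trivial
    suffices h : ∀ s ∈ Submodule.span (Ring (E0 p hp)) (inv p hp F : Set (sec F (E0 p hp))),
        ∃ z, (show sec F (E0 p hp) from upΓ W (tens p hp hX t z)) = s by
      obtain ⟨z, hz⟩ := h _ hsp
      exact ⟨z, congrArg ULift.down hz⟩
    intro s h
    induction h using Submodule.span_induction with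
    | mem s h =>
      obtain ⟨c, rfl⟩ := hrange s h
      refine ⟨(1 : Γ(U.left, ⊤)) ⊗ₜ c, (hsmul 1 c).symm.trans ?_⟩
      rw [map_one]; exact one_smul _ _
    | zero => exact ⟨0, by rw [map_zero]; exact map_zero _⟩
    | add a a' _ _ ha ha' =>
      obtain ⟨z, rfl⟩ := ha
      obtain ⟨z', rfl⟩ := ha'
      exact ⟨z + z', by rw [map_add]; exact map_add _ _ _⟩
    | smul r a _ ha =>
      obtain ⟨z, rfl⟩ := ha
      refine ⟨((show Γ(U.left, ⊤) from (show Ring (E0 p hp) from r).down) ⊗ₜ (1 : Γ(T.left, ⊤))) * z, ?_⟩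
      rw [map_mul, map_mul]
      change (show Ring W from upΓ W _) * (show Ring W from upΓ W _) =
        (show Ring W from bcRho hf (E0 p hp) r) * (show Ring W from upΓ W _)
      congr 1
      rw [tens_tmul, map_one, mul_one]
      exact (RingHom.congr_fun (bcRho_eq hf (E0 p hp)) r).symm

end AlgSpAff
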