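import Groth.Agent.AlgSpAffLib.Inv
import Groth.Agent.ModEtQcLib.PushQc
import Mathlib.RingTheory.Flat.EquationalCriterion
import Mathlib.RingTheory.Flat.FaithfullyFlat.Basic

/-!
# Relations between invariant sections
-/

set_option autoImplicit false
set_option linter.unusedSectionVars false
set_option linter.style.haveILetI false
set_option backward.isDefEq.respectTransparency false
set_option backward.isDefEq.respectTransparency.types false
set_option maxHeartbeats 400000
set_option synthInstance.maxHeartbeats 100000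

universe u

open CategoryTheory CategoryTheory.Limits AlgebraicGeometry Opposite AlgSp
open Groth.Agent
open scoped TensorProduct

noncomputable section

namespace AlgSpAff

open ModEtQc AlgSpCohColim

variable {S : Scheme.{u}} {X : Sp S}

theorem appS_add {M M' : ModEt X} (φ ψ : M ⟶ M') (E : EtOver X) (x : sec M E) :
    appS (φ + ψ) E x = appS φ E x + appS ψ E x := rfl

theorem appS_sum {M M' : ModEt X} {ι : Type*} (s : Finset ι) (φ : ι → (M ⟶ M')) (E : EtOver X) (x : sec M E) :
    appS (∑ i ∈ s, φ i) E x = ∑ i ∈ s, appS (φ i) E x := by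
  classical
  induction s using Finset.induction with
  | empty => rw [Finset.sum_empty, Finset.sum_empty]; rfl
  | insert a s ha ih => rw [Finset.sum_insert ha, Finset.sum_insert ha, appS_add, ih]

theorem bc_unit : BC (unitModEt X) := by
  intro E hE
  rw [isTilde_iff_evS]
  intro Z hZ
  have h : ⇑(evS (unitModEt X) Z) = ⇑(TensorProduct.rid (Ring E) (Ring Z.left)) := by
    funext t
    induction t using TensorProduct.induction_on with
    | zero => rw [map_zero, map_zero]
    | tmul r m =>
      rw [evS_tmul, TensorProduct.rid_tmul]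
      exact (mul_comm r _).trans (Algebra.smul_def (R := Ring E) (A := Ring Z.left) m r).symm
    | add x y hx hy => rw [map_add, map_add, hx, hy]
  rw [h]
  exact LinearEquiv.bijective _

/-- Finite free modules. -/
abbrev freeN (X : Sp S) (n : ℕ) : ModEt X := ∏ᶜ fun _ : ULift.{u + 1} (Fin n) => unitModEt X

/-- Projections. -/
abbrev frπ {n : ℕ} (i : Fin n) : freeN X n ⟶ unitModEt X :=
  Pi.π (fun _ : ULift.{u + 1} (Fin n) => unitModEt X) ⟨i⟩

/-- Inclusions. -/
def frι {n : ℕ} (i : Fin n) : unitModEt X ⟶ freeN X n :=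
  Pi.lift fun j : ULift.{u + 1} (Fin n) => if j.down = i then 𝟙 (unitModEt X) else 0

theorem frι_π {n : ℕ} (i j : Fin n) : frι (X := X) i ≫ frπ j = if j = i then 𝟙 (unitModEt X) else 0 :=
  Pi.lift_π _ _

theorem free_total (n : ℕ) : (∑ i : Fin n, frπ i ≫ frι i) = 𝟙 (freeN X n) := by
  refine Pi.hom_ext _ _ fun j => ?_
  rw [Preadditive.sum_comp, Category.id_comp]
  refine (Finset.sum_eq_single j.down (fun i _ hi => ?_) (fun h => absurd (Finset.mem_univ _) h)).trans ?_
  · rw [Category.assoc]
    refine (congrArg (frπ i ≫ ·) (frι_π i j.down)).trans ?_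
    rw [if_neg (Ne.symm hi), comp_zero]
  · rw [Category.assoc]
    refine (congrArg (frπ j.down ≫ ·) (frι_π j.down j.down)).trans ?_
    rw [if_pos rfl, Category.comp_id]

theorem free_eq_sum {n : ℕ} (E : EtOver X) (x : sec (freeN X n) E) :
    x = ∑ i : Fin n, appS (frι i) E (appS (frπ i) E x) := by
  have h := congrArg (fun φ => appS φ E x) (free_total (X := X) n)
  refine h.symm.trans ?_
  exact appS_sum _ _ _ _

theorem frπ_sum_ι {n : ℕ} (E : EtOver X) (a : Fin n → sec (unitModEt X) E) (j : Fin n) :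
    appS (frπ j) E (∑ i, appS (frι i) E (a i)) = a j := by
  classical
  rw [map_sum]
  refine (Finset.sum_eq_single j (fun i _ hi => ?_) (fun h => absurd (Finset.mem_univ _) h)).trans ?_
  · refine (show appS (frπ j) E (appS (frι i) E (a i)) = appS (frι i ≫ frπ j) E (a i) from rfl).trans ?_
    rw [frι_π, if_neg (Ne.symm hi)]
    rfl
  · refine (show appS (frπ j) E (appS (frι j) E (a j)) = appS (frι j ≫ frπ j) E (a j) from rfl).trans ?_
    rw [frι_π, if_pos rfl]
    rfl

theorem bc_free (n : ℕ) : BC (freeN X n) := by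
  intro E hE
  rw [isTilde_iff_evS]
  intro Z hZ
  have e := (isTilde_iff_evS (unitModEt X) E).1 (bc_unit E hE) Z hZ
  refine ⟨(injective_iff_map_eq_zero _).2 fun t ht => ?_, fun y => ?_⟩
  · have h0 : ∀ i : Fin n, (appS (frπ i) E).lTensor (Ring Z.left) t = 0 := fun i => e.1 (by
      rw [evS_natural, ht, map_zero, map_zero])
    have h1 : t = (∑ i : Fin n, (appS (frι i) E).comp (appS (frπ i) E)).lTensor (Ring Z.left) t := by
      conv_lhs => rw [← LinearMap.id_apply (R := Ring E) t, ← LinearMap.lTensor_id]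
      congr 2
      refine LinearMap.ext fun x => ?_
      rw [LinearMap.sum_apply]
      exact free_eq_sum E x
    rw [h1, show LinearMap.lTensor (Ring Z.left) (∑ i : Fin n, (appS (frι i) E).comp (appS (frπ i) E)) =
      ∑ i : Fin n, LinearMap.lTensor (Ring Z.left) ((appS (frι i) E).comp (appS (frπ i) E)) from
      map_sum (LinearMap.lTensorHom (Ring Z.left)) _ _, LinearMap.sum_apply]
    refine Finset.sum_eq_zero fun i _ => ?_
    rw [LinearMap.lTensor_comp_apply, h0, map_zero]
  · choose t ht using fun i => e.2 (appS (frπ i) Z.left y)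
    refine ⟨∑ i, (appS (frι i) E).lTensor (Ring Z.left) (t i), ?_⟩
    rw [map_sum]
    refine Eq.trans ?_ (free_eq_sum Z.left y).symm
    exact Finset.sum_congr rfl fun i _ => by rw [evS_natural, ht]

/-- The map out of the structure sheaf given by a global family. -/
def globHom {Q : ModEt X} (x : Fam ((toAbEt X).obj Q)) : unitModEt X ⟶ Q :=
  Q.unitHomEquiv.symm (PresheafOfModules.sectionsMk (M := Q.val) (fun E => x.1 E.unop) fun _ _ g => x.2 g.unop)

theorem globHom_one {Q : ModEt X} (x : Fam ((toAbEt X).obj Q)) (E : EtOver X) :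
    appS (globHom x) E (1 : Ring E) = x.1 E := by
  exact congrArg (fun s : Q.sections => s.val (op E))
    (Q.unitHomEquiv.apply_symm_apply
      (PresheafOfModules.sectionsMk (M := Q.val) (fun E => x.1 E.unop) fun _ _ g => x.2 g.unop))

theorem globHom_apply {Q : ModEt X} (x : Fam ((toAbEt X).obj Q)) (E : EtOver X) (a : sec (unitModEt X) E) :
    appS (globHom x) E a = (show Ring E from a) • (show sec Q E from x.1 E) := by
  rw [← globHom_one x E, ← map_smul]
  exact congrArg _ (mul_one (show Ring E from a)).symm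

theorem sum_down (E : EtOver X) {ι : Type} [Fintype ι] (s : ι → Ring E) : (∑ l, s l).down = ∑ l, (s l).down :=
  map_sum (ULift.ringEquiv (R := Γ(E.obj.left.left, ⊤))) s Finset.univ

variable {U : Over S} (p : (yon S).obj U ⟶ X) (hp : RepWith @Etale p) (hs : RepWith @Surjective p)
  [QuasiSeparatedSpace ↥S] [IsAffine U.left]

theorem inv_unit {w : sec (unitModEt X) (E0 p hp)} (h : w ∈ inv p hp (unitModEt X)) :
    (show Ring (E0 p hp) from w).down ∈ invA p hp := by
  have h' : rho (q₁ p hp) (show Ring (E0 p hp) from w) = rho (q₂ p hp) (show Ring (E0 p hp) from w) := h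
  have e : (show Ring (E0 p hp) from w) = upΓ (E0 p hp) (show Ring (E0 p hp) from w).down := rfl
  rw [e, rho_upΓ, rho_upΓ] at h'
  exact congrArg ULift.down h'

theorem unit_mem_inv {a : Γ(U.left, ⊤)} (ha : a ∈ invA p hp) :
    (show sec (unitModEt X) (E0 p hp) from upΓ (E0 p hp) a) ∈ inv p hp (unitModEt X) :=
  rho_inv p hp ha

include hs in
/-- Relations between invariant sections come from invariant relations. -/
theorem exists_relations (hL : Lift p hp) (hC : Cons p hp) {Q : ModEt X} (hQ : BC Q) {n : ℕ}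
    (c : Fin n → sec Q (E0 p hp)) (hc : ∀ i, c i ∈ inv p hp Q) (b : Fin n → Γ(U.left, ⊤))
    (h : ∑ i, (show Ring (E0 p hp) from upΓ (E0 p hp) (b i)) • c i = 0) :
    ∃ (m : ℕ) (β : Fin m → Γ(U.left, ⊤)) (v : Fin m → Fin n → invA p hp),
      (∀ l, ∑ i, (show Ring (E0 p hp) from upΓ (E0 p hp) (v l i : Γ(U.left, ⊤))) • c i = 0) ∧
        ∀ i, b i = ∑ l, β l * (v l i : Γ(U.left, ⊤)) := by
  classical
  choose x hx using fun i => exists_fam_of_inv p hp hs (hc i)
  let φ : freeN X n ⟶ Q := ∑ i, frπ i ≫ globHom (x i)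
  have hφ : ∀ y : sec (freeN X n) (E0 p hp), appS φ (E0 p hp) y =
      ∑ i, (show Ring (E0 p hp) from appS (frπ i) (E0 p hp) y) • c i := fun y => by
    rw [appS_sum]
    refine Finset.sum_congr rfl fun i _ => ?_
    exact (globHom_apply (x i) (E0 p hp) _).trans (congrArg _ (hx i))
  let e : sec (freeN X n) (E0 p hp) :=
    ∑ i, appS (frι i) (E0 p hp) (show sec (unitModEt X) (E0 p hp) from upΓ (E0 p hp) (b i))
  have he : appS φ (E0 p hp) e = 0 := by
    rw [hφ, ← h]
    exact Finset.sum_congr rfl fun i _ => congrArg (fun r => (show Ring (E0 p hp) from r) • c i) (frπ_sum_ι _ _ i)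
  have hK := bc_kernel φ (bc_free n) hQ
  obtain ⟨k, hk⟩ := (exact_appS (T := ShortComplex.mk (kernel.ι φ) φ (kernel.condition φ))
    (ShortComplex.exact_of_f_is_kernel _ (kernelIsKernel φ)) (E0 p hp) e).1 he
  obtain ⟨m, f, g, hfg⟩ := Submodule.mem_span_set'.1
    (show k ∈ Submodule.span (Ring (E0 p hp)) (inv p hp (kernel φ) : Set (sec (kernel φ) (E0 p hp))) by
      rw [span_inv p hp hs hL hC hK]; trivial)
  have hw : ∀ l i, (show Ring (E0 p hp) from
      appS (frπ i) (E0 p hp) (appS (kernel.ι φ) (E0 p hp) (g l).1)).down ∈ invA p hp := fun l i =>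
    inv_unit p hp (appS_mem_inv p hp _ (appS_mem_inv p hp _ (g l).2))
  refine ⟨m, fun l => (f l).down, fun l i => ⟨_, hw l i⟩, fun l => ?_, fun i => ?_⟩
  · refine (hφ (appS (kernel.ι φ) (E0 p hp) (g l).1)).symm.trans ?_
    exact congrArg (fun ψ => appS ψ (E0 p hp) (g l).1) (kernel.condition φ)
  · let ψ : kernel φ ⟶ unitModEt X := kernel.ι φ ≫ frπ i
    have h2 : appS ψ (E0 p hp) k = (show sec (unitModEt X) (E0 p hp) from upΓ (E0 p hp) (b i)) :=
      (congrArg (appS (frπ i) (E0 p hp)) hk).trans (frπ_sum_ι (E0 p hp) _ i)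
    have h4 : appS ψ (E0 p hp) k = (show sec (unitModEt X) (E0 p hp) from
        ∑ l, (show Ring (E0 p hp) from f l) * (show Ring (E0 p hp) from appS ψ (E0 p hp) (g l).1)) := by
      rw [← hfg, map_sum]
      exact Finset.sum_congr rfl fun l _ => map_smul (appS ψ (E0 p hp)) (f l) _
    have h3 := congrArg ULift.down (show (∑ l, (show Ring (E0 p hp) from f l) *
      (show Ring (E0 p hp) from appS ψ (E0 p hp) (g l).1)) = upΓ (E0 p hp) (b i) from h4.symm.trans h2)
    rw [sum_down] at h3
    exact h3.symm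

include hs in
/-- The invariant functions have flat inclusion. -/
theorem flat_invA (hL : Lift p hp) (hC : Cons p hp) : Module.Flat (invA p hp) Γ(U.left, ⊤) := by
  rw [Module.Flat.iff_forall_isTrivialRelation]
  intro n f x h
  obtain ⟨m, β, v, hv, hb⟩ := exists_relations p hp hs hL hC bc_unit
    (fun i => (show sec (unitModEt X) (E0 p hp) from upΓ (E0 p hp) (f i : Γ(U.left, ⊤))))
    (fun i => unit_mem_inv p hp (f i).2) x (by
      refine Eq.trans ?_ ((congrArg (upΓ (E0 p hp)) h).trans (map_zero _))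
      rw [map_sum]
      refine Finset.sum_congr rfl fun i _ => ?_
      exact (map_mul (upΓ (E0 p hp)) _ _).symm.trans (congrArg (upΓ (E0 p hp)) (mul_comm _ _)))
  refine ⟨m, fun i l => v l i, β, fun i => ?_, fun l => ?_⟩
  · rw [hb i]
    exact Finset.sum_congr rfl fun l _ => by rw [Subring.smul_def, smul_eq_mul, mul_comm]
  · refine Subtype.ext ?_
    have h2 := congrArg ULift.down (show (∑ i, upΓ (E0 p hp) (v l i : Γ(U.left, ⊤)) * upΓ (E0 p hp) (f i : Γ(U.left, ⊤))) = 0
      from hv l)
    rw [sum_down] at h2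
    push_cast
    refine Eq.trans (Finset.sum_congr rfl fun i _ => ?_) h2
    exact mul_comm _ _

include hs in
theorem exists_combination (hL : Lift p hp) {n : ℕ} (a : Fin n → invA p hp) (b : Fin n → Γ(U.left, ⊤))
    (h : ∑ i, b i * (a i : Γ(U.left, ⊤)) = 1) : ∃ v : Fin n → invA p hp, ∑ i, v i * a i = 1 := by
  choose x hx using fun i => exists_fam_of_inv p hp hs (unit_mem_inv p hp (a i).2)
  let φ : freeN X n ⟶ unitModEt X := ∑ i, frπ i ≫ globHom (x i)
  have hφ : ∀ y : sec (freeN X n) (E0 p hp), appS φ (E0 p hp) y =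
      (show sec (unitModEt X) (E0 p hp) from ∑ i, (show Ring (E0 p hp) from appS (frπ i) (E0 p hp) y) *
        (show Ring (E0 p hp) from upΓ (E0 p hp) (a i : Γ(U.left, ⊤)))) := fun y => by
    rw [appS_sum]
    refine Finset.sum_congr rfl fun i _ => ?_
    exact (globHom_apply (x i) (E0 p hp) _).trans (congrArg _ (hx i))
  let e : sec (freeN X n) (E0 p hp) :=
    ∑ i, appS (frι i) (E0 p hp) (show sec (unitModEt X) (E0 p hp) from upΓ (E0 p hp) (b i))
  have he : appS φ (E0 p hp) e = (1 : Ring (E0 p hp)) := by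
    rw [hφ]
    refine Eq.trans ?_ ((congrArg (upΓ (E0 p hp)) h).trans (map_one _))
    rw [map_sum]
    refine Finset.sum_congr rfl fun i _ => ?_
    rw [map_mul]
    exact congrArg (fun r => (show Ring (E0 p hp) from r) * _) (frπ_sum_ι _ _ i)
  have hC0 : ∀ s : sec (cokernel φ) (E0 p hp), s = 0 := fun s => by
    obtain ⟨r, rfl⟩ := surjective_appS_of_epi (cokernel.π φ) bc_unit (bc_cokernel φ (bc_free n) bc_unit) (E0 p hp) s
    refine (exact_cokernel_appS φ (bc_free n) bc_unit (E0 p hp) r).2 ⟨(show Ring (E0 p hp) from r) • e, ?_⟩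
    rw [map_smul, he]
    exact mul_one (show Ring (E0 p hp) from r)
  haveI : Epi φ := Preadditive.epi_of_cokernel_zero
    ((isZero_of_atlas p hp hs (bc_cokernel φ (bc_free n) bc_unit) hC0).eq_of_tgt (cokernel.π φ) 0)
  obtain ⟨y, hy, hy1⟩ := hL (ShortComplex.mk (kernel.ι φ) φ (kernel.condition φ))
    { exact := ShortComplex.exact_of_f_is_kernel _ (kernelIsKernel φ) } (bc_kernel φ (bc_free n) bc_unit)
    (show sec (unitModEt X) (E0 p hp) from (1 : Ring (E0 p hp)))
    (show rho (q₁ p hp) 1 = rho (q₂ p hp) 1 by rw [map_one, map_one])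
  refine ⟨fun i => ⟨_, inv_unit p hp (appS_mem_inv p hp (frπ i) hy)⟩, Subtype.ext ?_⟩
  push_cast
  have h2 := congrArg ULift.down (show (∑ i, (show Ring (E0 p hp) from appS (frπ i) (E0 p hp) y) *
      (show Ring (E0 p hp) from upΓ (E0 p hp) (a i : Γ(U.left, ⊤)))) = 1 from (hφ y).symm.trans hy1)
  rw [sum_down] at h2
  exact h2

include hs in
/-- The invariant functions have faithfully flat inclusion. -/
theorem faithfullyFlat_invA (hL : Lift p hp) (hC : Cons p hp) :
    Module.FaithfullyFlat (invA p hp) Γ(U.left, ⊤) := by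
  haveI := flat_invA p hp hs hL hC
  refine { submodule_ne_top := fun m hm h => hm.ne_top ((Ideal.eq_top_iff_one m).2 ?_) }
  have h1 : (1 : Γ(U.left, ⊤)) ∈ m • (⊤ : Submodule (invA p hp) Γ(U.left, ⊤)) := by rw [h]; trivial
  have key : ∀ y ∈ m • (⊤ : Submodule (invA p hp) Γ(U.left, ⊤)), ∃ (n : ℕ) (a : Fin n → m)
      (b : Fin n → Γ(U.left, ⊤)), ∑ i, b i * ((a i : invA p hp) : Γ(U.left, ⊤)) = y := by
    intro y hy
    induction hy using Submodule.smul_induction_on' with
    | smul r hr x _ => exact ⟨1, fun _ => ⟨r, hr⟩, fun _ => x, by simp [Subring.smul_def, mul_comm]⟩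
    | add x _ y _ hx hy =>
      obtain ⟨n, a, b, rfl⟩ := hx
      obtain ⟨n', a', b', rfl⟩ := hy
      refine ⟨n + n', Fin.append a a', Fin.append b b', ?_⟩
      rw [Fin.sum_univ_add]
      simp
  obtain ⟨n, a, b, hab⟩ := key 1 h1
  obtain ⟨v, hv⟩ := exists_combination p hp hs hL (fun i => (a i : invA p hp)) b hab
  exact hv ▸ Ideal.sum_mem m fun i _ => m.mul_mem_left _ (a i).2

end AlgSpAff
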